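import Groth.Prelude.Def_RelSpec

/-!
# Quasi-coherent algebras from algebras on the small affine site

A coequifibered algebra `F` over the structure sheaf on the small affine Zariski site comes from a
quasi-coherent algebra.
-/

universe u

open CategoryTheory CategoryTheory.Limits AlgebraicGeometry TopologicalSpace Opposite

noncomputable section

namespace Groth.Agent.Eg2Sym.Glue

variable {S : Scheme.{u}} {F : S.AffineZariskiSiteᵒᵖ ⥤ CommRingCat.{u}}
  {α : (Scheme.AffineZariskiSite.toOpensFunctor S).op ⋙ S.presheaf ⟶ F} (H : α.Coequifibered)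

/-- The gluing data. -/
def gd : (Scheme.AffineZariskiSite.directedCover S).RelativeGluingData :=
  Scheme.AffineZariskiSite.relativeGluingData H

instance : ((gd H).functor ⋙ Scheme.forget).IsLocallyDirected :=
  Scheme.Cover.RelativeGluingData.instIsLocallyDirectedI₀CompFunctorForgetOfIsThin ..

/-- The glued scheme. -/
def glued : Scheme.{u} := (gd H).glued

/-- Its map to the base. -/
def proj : glued H ⟶ S := (gd H).toBase

/-- The chart over an affine open. -/
def chart (U : S.AffineZariskiSite) : Spec (F.obj (op U)) ⟶ glued H := (gd H).cover.f U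

instance (U : S.AffineZariskiSite) : IsOpenImmersion (chart H U) := (gd H).cover.map_prop _

theorem chart_proj (U : S.AffineZariskiSite) :
    chart H U ≫ proj H = Spec.map (α.app (op U)) ≫ U.2.fromSpec :=
  colimit.ι_desc _ _

theorem proj_preimage (U : S.AffineZariskiSite) : proj H ⁻¹ᵁ U.1 = (chart H U).opensRange := by
  simpa using! (gd H).toBase_preimage_eq_opensRange_ι U

theorem chart_res {U V : S.AffineZariskiSite} (i : V ⟶ U) :
    Spec.map (F.map i.op) ≫ chart H U = chart H V :=
  colimit.w (gd H).functor i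

instance : IsAffineHom (proj H) where
  isAffine_preimage U hU := by
    rw [proj_preimage H ⟨U, hU⟩]
    have : IsAffine (Spec (F.obj (op (⟨U, hU⟩ : S.AffineZariskiSite)))) := inferInstance
    have h : IsOpenImmersion (chart H ⟨U, hU⟩) := (gd H).cover.map_prop _
    exact @isAffineOpen_opensRange _ _ this (chart H ⟨U, hU⟩) h

/-- The glued algebra. -/
def alg : RelSpec.QCAlg S := RelSpec.QCAlg.directImage (proj H)

theorem top_le (U : S.AffineZariskiSite) :
    (⊤ : (Spec (F.obj (op U))).Opens) ≤ chart H U ⁻¹ᵁ (proj H ⁻¹ᵁ U.1) := by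
  intro x _
  show chart H U x ∈ proj H ⁻¹ᵁ U.1
  rw [proj_preimage H U]
  exact ⟨x, rfl⟩

/-- Sections of the glued algebra over an affine open. -/
def toF (U : S.AffineZariskiSite) : (alg H).presheaf.obj (op U.1) ⟶ F.obj (op U) :=
  (chart H U).appLE (proj H ⁻¹ᵁ U.1) ⊤ (top_le H U) ≫ (Scheme.ΓSpecIso (F.obj (op U))).hom

instance isIso_toF (U : S.AffineZariskiSite) : IsIso (toF H U) := by
  have hpre : chart H U ⁻¹ᵁ (proj H ⁻¹ᵁ U.1) = ⊤ := le_antisymm le_top (top_le H U)
  have h1 : IsIso ((chart H U).app (proj H ⁻¹ᵁ U.1)) :=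
    Scheme.Hom.isIso_app _ _ (proj_preimage H U).le
  have h2 : (chart H U).appLE (proj H ⁻¹ᵁ U.1) ⊤ (top_le H U) =
      (chart H U).app (proj H ⁻¹ᵁ U.1) ≫ (Spec (F.obj (op U))).presheaf.map (eqToHom hpre.symm).op :=
    rfl
  have h3 : IsIso ((chart H U).appLE (proj H ⁻¹ᵁ U.1) ⊤ (top_le H U)) := by
    rw [h2]; infer_instance
  unfold toF
  exact @CategoryTheory.IsIso.comp_isIso _ _ _ _ _ _ _ h3 inferInstance

set_option backward.isDefEq.respectTransparency false in
theorem toF_nat {U V : S.AffineZariskiSite} (i : V ⟶ U) :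
    (alg H).presheaf.map (homOfLE (Scheme.AffineZariskiSite.toOpens_mono i.le)).op ≫ toF H V =
      toF H U ≫ F.map i.op := by
  change (glued H).presheaf.map
      (homOfLE ((proj H).preimage_mono (Scheme.AffineZariskiSite.toOpens_mono i.le))).op ≫ toF H V =
    toF H U ≫ F.map i.op
  simp only [toF, Category.assoc, ← Scheme.ΓSpecIso_naturality]
  simp only [← Category.assoc]
  congr 1
  simp only [Scheme.Hom.appTop, Scheme.Hom.appLE, Category.assoc]
  have h1 := (Scheme.Hom.comp_app (Spec.map (F.map i.op)) (chart H U) (proj H ⁻¹ᵁ U.1)).symm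
  rw [Scheme.Hom.naturality_assoc, Scheme.Hom.naturality, reassoc_of% h1,
    Scheme.Hom.congr_app (chart_res H i), Category.assoc, ← Functor.map_comp, ← Functor.map_comp]
  rfl

set_option backward.isDefEq.respectTransparency false in
theorem str_toF (U : S.AffineZariskiSite) :
    (alg H).str.app (op U.1) ≫ toF H U = α.app (op U) := by
  change (proj H).app U.1 ≫ toF H U = α.app (op U)
  have h1 := Scheme.Hom.congr_app (chart_proj H U) U.1
  have h2 := (Scheme.Hom.comp_app (chart H U) (proj H) U.1).symm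
  have hk : ∀ k : (op ⊤ : (Spec (F.obj (op U))).Opensᵒᵖ) ⟶ op ⊤,
      (Spec (F.obj (op U))).presheaf.map k = 𝟙 _ := fun k => by
    rw [Subsingleton.elim k (𝟙 _)]; exact CategoryTheory.Functor.map_id _ _
  simp only [toF, Scheme.Hom.appLE, Category.assoc]
  rw [reassoc_of% h2, h1, Scheme.Hom.comp_app, U.2.fromSpec_app_self]
  simp only [Category.assoc]
  rw [Scheme.Hom.naturality_assoc]
  simp only [← Functor.map_comp_assoc]
  erw [hk, Category.id_comp]
  rw [← cancel_epi (Scheme.ΓSpecIso Γ(S, U.1)).hom, Iso.hom_inv_id_assoc]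
  erw [Scheme.ΓSpecIso_naturality]
  rfl

end Groth.Agent.Eg2Sym.Glue
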