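import Groth.Agent.Eg2Sym.Graded
import Groth.Agent.Eg2Rel.TwistFrame

/-!
# The fundamental sheaf of a projective bundle is framed by sections of the module
-/

universe u

open CategoryTheory CategoryTheory.Limits AlgebraicGeometry TopologicalSpace Opposite
open Groth.Agent.AModX
open scoped HomogeneousIdeal

set_option backward.isDefEq.respectTransparency false
set_option backward.isDefEq.respectTransparency.types false

noncomputable section

namespace Groth.Agent.Eg2Sym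

variable {Y P : Scheme.{u}} {E : Y.Modules} {𝒮 : RelProj.QCGrAlg Y} {j : E ⟶ 𝒮.toModule} {p : P ⟶ Y}
  {chart : ∀ (U : Y.Opens) (hU : IsAffineOpen U), ((p ⁻¹ᵁ U : P.Opens) : Scheme.{u}) ≅ Proj (𝒮.deg U hU)}

/-- The open where `j e` does not vanish. -/
def genOpen (j : E ⟶ 𝒮.toModule)
    (chart : ∀ (U : Y.Opens) (hU : IsAffineOpen U), ((p ⁻¹ᵁ U : P.Opens) : Scheme.{u}) ≅ Proj (𝒮.deg U hU))
    {U : Y.Opens} (hU : IsAffineOpen U) (e : Γ(E, U)) : P.Opens :=
  RelProj.emb p chart U hU ''ᵁ Proj.basicOpen (𝒮.deg U hU) (jApp (A := 𝒮.toQCAlg) j U e)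

lemma genOpen_le {U : Y.Opens} (hU : IsAffineOpen U) (e : Γ(E, U)) :
    genOpen j chart hU e ≤ p ⁻¹ᵁ U :=
  ((RelProj.emb p chart U hU).image_le_opensRange _).trans (RelTildeX.opensRange_emb p chart U hU).le

/-- These opens cover. -/
theorem exists_mem_genOpen (hE : Coh.IsQCoh E) (hj : RelProj.IsGrSymAlg E 𝒮 j)
    {U : Y.Opens} (hU : IsAffineOpen U) (x : P) (hx : p x ∈ U) :
    ∃ e : Γ(E, U), x ∈ genOpen j chart hU e := by
  obtain ⟨y, rfl⟩ := EgaQ.mem_range_emb (chart := chart) U hU x hx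
  let y' : ProjectiveSpectrum (𝒮.deg U hU) := y
  by_contra! H
  refine y'.not_irrelevant_le ?_
  show ((𝒮.deg U hU)₊).toIdeal ≤ y'.asHomogeneousIdeal.toIdeal
  rw [irrelevant_eq_span hE hj hU, Ideal.span_le]
  rintro _ ⟨e, rfl⟩
  by_contra he
  exact H e ⟨y, he, rfl⟩

variable {O1 : P.Modules}
  {lam : ∀ (U : Y.Opens) (hU : IsAffineOpen U),
    O1 ⟶ (Scheme.Modules.pushforward (RelProj.emb p chart U hU)).obj (GrTwist.twist (𝒮.deg U hU) 1)}

/-- `φ e` frames the fundamental sheaf where `j e` does not vanish. -/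
theorem isFrame_phi (hj : RelProj.IsGrSymAlg E 𝒮 j) (hO1 : RelProj.IsRelTwist 𝒮 p chart 1 O1 lam)
    (φ : E ⟶ (Scheme.Modules.pushforward p).obj O1)
    (hφ : ∀ (U : Y.Opens) (hU : IsAffineOpen U) (e : Γ(E, U))
      (y : ↥(RelProj.emb p chart U hU ⁻¹ᵁ (p ⁻¹ᵁ U))),
      GrTwist.val (V := RelProj.emb p chart U hU ⁻¹ᵁ (p ⁻¹ᵁ U))
          ((lam U hU).app (p ⁻¹ᵁ U) ((φ.app U) e)) y =
        algebraMap (𝒮.presheaf.obj (op U)) (GrTwist.Loc (𝒮.deg U hU) y.1)
          ((j.app U) e : 𝒮.presheaf.obj (op U)))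
    {U : Y.Opens} (hU : IsAffineOpen U) (e : Γ(E, U)) :
    InvX.IsFrame (res O1 (genOpen_le (j := j) (chart := chart) hU e)
      (show Γ(O1, p ⁻¹ᵁ U) from φ.app U e)) := by
  set f : 𝒮.presheaf.obj (op U) := jApp (A := 𝒮.toQCAlg) j U e with hf
  let D := Proj.basicOpen (𝒮.deg U hU) f
  let ψ := GrTwistX.powFrac (𝒜 := 𝒮.deg U hU) (U := D) (hj.2 U hU e : f ∈ 𝒮.deg U hU 1)
    SetLike.GradedOne.one_mem (zero_add 1).symm 1 (fun x => x.2)
    (fun x h => x.1.isPrime.ne_top ((Ideal.eq_top_iff_one _).mpr h))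
  let ψ' : GrTwistX.UnitFrac (𝒜 := 𝒮.deg U hU) 1 D := ψ
  obtain ⟨s, hs, hval⟩ := Eg2Rel.exists_frame_frac hO1 hU ψ'
  suffices heq : res O1 (genOpen_le (j := j) (chart := chart) hU e)
      (show Γ(O1, p ⁻¹ᵁ U) from φ.app U e) = s from heq ▸ hs
  refine (hO1.bijective U hU _ (genOpen_le (j := j) (chart := chart) hU e)).1 ?_
  refine Subtype.ext (funext fun y => Subtype.ext ?_)
  obtain ⟨y, hy⟩ := y
  have hy' : y ∈ D := by
    have h := hy
    change (RelProj.emb p chart U hU).base y ∈ (RelProj.emb p chart U hU ''ᵁ D : Set P) at h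
    rw [Scheme.Hom.coe_image, (RelProj.emb p chart U hU).isOpenEmbedding.injective.mem_set_image] at h
    exact h
  show GrTwist.val (V := RelProj.emb p chart U hU ⁻¹ᵁ genOpen j chart hU e)
      ((lam U hU).app (genOpen j chart hU e) _) ⟨y, hy⟩ =
    GrTwist.val (V := RelProj.emb p chart U hU ⁻¹ᵁ genOpen j chart hU e)
      ((lam U hU).app (genOpen j chart hU e) s) ⟨y, hy⟩
  rw [Eg2Rel.val_app_res hU (lam U hU) (genOpen_le (j := j) (chart := chart) hU e)]
  refine (hφ U hU e ⟨y, _⟩).trans ((?_ : _ = _).trans (hval y hy hy').symm)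
  show algebraMap _ _ f = _
  rw [← Localization.mk_one_eq_algebraMap]
  refine Localization.mk_eq_mk_iff.mpr (Localization.r_of_eq ?_)
  simp [ψ', ψ, GrTwistX.powFrac]
  rfl

end Groth.Agent.Eg2Sym
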