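import Mathlib.LinearAlgebra.SymmetricAlgebra.Basic
import Mathlib.RingTheory.Localization.Away.Basic
import Mathlib.Algebra.Module.LocalizedModule.IsLocalization

/-!
# Symmetric algebras and semilinear maps

Extension of semilinear maps to symmetric algebras; compatibility with localization at an element.
-/

universe u

set_option linter.style.haveILetI false

noncomputable section

namespace Groth.Agent.Eg2Sym

variable {R M T : Type u} [CommRing R] [AddCommGroup M] [Module R M] [CommRing T]

/-- The ring homomorphism extending a semilinear map. -/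
def symLift (σ : R →+* T) (f : M →+ T) (hf : ∀ r x, f (r • x) = σ r * f x) :
    SymmetricAlgebra R M →+* T :=
  letI := σ.toAlgebra
  (SymmetricAlgebra.lift (R := R) (M := M) (A := T)
    { toFun := f, map_add' := f.map_add, map_smul' := fun r x => hf r x }).toRingHom

theorem symLift_algebraMap (σ : R →+* T) (f : M →+ T) (hf : ∀ r x, f (r • x) = σ r * f x) (r : R) :
    symLift σ f hf (algebraMap R _ r) = σ r := by
  letI := σ.toAlgebra
  exact AlgHom.commutes _ r

theorem symLift_ι (σ : R →+* T) (f : M →+ T) (hf : ∀ r x, f (r • x) = σ r * f x) (x : M) :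
    symLift σ f hf (SymmetricAlgebra.ι R M x) = f x := by
  letI := σ.toAlgebra
  exact SymmetricAlgebra.lift_ι_apply _ x

theorem sym_hom_ext {g g' : SymmetricAlgebra R M →+* T}
    (hs : ∀ r, g (algebraMap R _ r) = g' (algebraMap R _ r))
    (hι : ∀ x, g (SymmetricAlgebra.ι R M x) = g' (SymmetricAlgebra.ι R M x)) : g = g' := by
  refine RingHom.ext fun a => ?_
  induction a using SymmetricAlgebra.induction with
  | algebraMap r => exact hs r
  | ι x => exact hι x
  | mul a b ha hb => rw [map_mul, map_mul, ha, hb]
  | add a b ha hb => rw [map_add, map_add, ha, hb]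

variable {R' M' : Type u} [CommRing R'] [AddCommGroup M'] [Module R' M']
  (ρ : R →+* R') (μ : M →+ M') (hμ : ∀ r x, μ (r • x) = ρ r • μ x)

/-- The map of symmetric algebras induced by a semilinear map. -/
def symMap : SymmetricAlgebra R M →+* SymmetricAlgebra R' M' :=
  symLift ((algebraMap R' _).comp ρ) ((SymmetricAlgebra.ι R' M').toAddMonoidHom.comp μ) fun r x => by
    show SymmetricAlgebra.ι R' M' (μ (r • x)) = _
    rw [hμ, map_smul, Algebra.smul_def]
    rfl

theorem symMap_algebraMap (r : R) :
    symMap ρ μ hμ (algebraMap R _ r) = algebraMap R' _ (ρ r) :=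
  symLift_algebraMap _ _ _ r

theorem symMap_ι (x : M) :
    symMap ρ μ hμ (SymmetricAlgebra.ι R M x) = SymmetricAlgebra.ι R' M' (μ x) :=
  symLift_ι _ _ _ x

/-- The symmetric algebra commutes with localization at an element. -/
theorem isLocalizationAway_sym (r : R) (hR : letI := ρ.toAlgebra; IsLocalization.Away r R')
    (hM : letI := Module.compHom M' ρ
      IsLocalizedModule (Submonoid.powers r)
        ({ toFun := μ, map_add' := μ.map_add, map_smul' := hμ } : M →ₗ[R] M')) :
    letI := (symMap ρ μ hμ).toAlgebra
    IsLocalization.Away (algebraMap R (SymmetricAlgebra R M) r) (SymmetricAlgebra R' M') := by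
  letI := ρ.toAlgebra
  letI := (symMap ρ μ hμ).toAlgebra
  letI : Module R M' := Module.compHom M' ρ
  haveI := hR
  haveI := hM
  let μL : M →ₗ[R] M' := { toFun := μ, map_add' := μ.map_add, map_smul' := hμ }
  let T := SymmetricAlgebra R M
  let a : T := algebraMap R T r
  let L := Localization.Away a
  let can : T →+* L := algebraMap T L
  have hunit : ∀ s : Submonoid.powers r, IsUnit (can (algebraMap R T (s : R))) := by
    rintro ⟨_, n, rfl⟩
    show IsUnit (can (algebraMap R T (r ^ n)))
    rw [map_pow, map_pow]
    exact (IsLocalization.Away.algebraMap_isUnit a).pow n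
  -- the map on the constants
  let σ : R' →+* L := IsLocalization.lift (M := Submonoid.powers r) (g := can.comp (algebraMap R T)) hunit
  have hσ : ∀ x, σ (ρ x) = can (algebraMap R T x) := IsLocalization.lift_eq hunit
  -- the map on the module
  have hsm : ∀ (c : R) (y : L), c • y = can (algebraMap R T c) * y := fun c y => by
    rw [Algebra.smul_def, IsScalarTower.algebraMap_apply R T L]
  let f₀ : M →ₗ[R] L :=
    { toFun := fun x => can (SymmetricAlgebra.ι R M x)
      map_add' := fun x y => by rw [map_add, map_add]
      map_smul' := fun c x => by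
        show can (SymmetricAlgebra.ι R M (c • x)) = c • can _
        rw [hsm, map_smul, Algebra.smul_def, map_mul] }
  have hEnd : ∀ s : Submonoid.powers r, IsUnit (algebraMap R (Module.End R L) (s : R)) := fun s =>
    (Module.End.isUnit_iff _).2
      ⟨fun x y h => (hunit s).mul_left_cancel (by
        have h' : (s : R) • x = (s : R) • y := h
        rwa [hsm, hsm] at h'), fun y => ⟨(↑(hunit s).unit⁻¹ : L) * y, by
        show (s : R) • ((↑(hunit s).unit⁻¹ : L) * y) = y
        rw [hsm, ← mul_assoc, IsUnit.mul_val_inv, one_mul]⟩⟩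
  let g : M' →ₗ[R] L := IsLocalizedModule.lift (Submonoid.powers r) μL f₀ hEnd
  have hg : ∀ x, g (μ x) = can (SymmetricAlgebra.ι R M x) := fun x =>
    IsLocalizedModule.lift_apply (Submonoid.powers r) μL f₀ hEnd x
  have hgsemi : ∀ (c : R') (y : M'), g (c • y) = σ c * g y := by
    intro c y
    obtain ⟨⟨b, s⟩, hb⟩ := IsLocalization.surj (Submonoid.powers r) c
    have h1 : g ((s : R) • (c • y)) = g (b • y) := by
      refine congrArg g ?_
      show ρ (s : R) • c • y = ρ b • y
      rw [smul_smul, mul_comm]
      exact congrArg (fun z => z • y) hb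
    rw [g.map_smul, g.map_smul, hsm, hsm] at h1
    refine (hunit s).mul_left_cancel ?_
    rw [h1, ← mul_assoc, ← hσ, ← hσ, ← map_mul]
    congr 2
    rw [mul_comm]
    exact hb.symm
  -- the inverse
  let inv' : SymmetricAlgebra R' M' →+* L := symLift σ g.toAddMonoidHom hgsemi
  have hau : IsUnit (symMap ρ μ hμ a) := by
    rw [symMap_algebraMap]
    exact (IsLocalization.Away.algebraMap_isUnit (S := R') r).map (algebraMap R' (SymmetricAlgebra R' M'))
  let fwd : L →+* SymmetricAlgebra R' M' := IsLocalization.Away.lift a hau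
  have hfwd : ∀ t, fwd (can t) = symMap ρ μ hμ t := IsLocalization.Away.lift_eq a hau
  have hinv : ∀ t, inv' (symMap ρ μ hμ t) = can t := fun t =>
    congrFun (congrArg DFunLike.coe (sym_hom_ext (g := inv'.comp (symMap ρ μ hμ)) (g' := can)
      (fun c => by
        rw [RingHom.comp_apply, symMap_algebraMap]
        exact (symLift_algebraMap σ g.toAddMonoidHom hgsemi (ρ c)).trans (hσ c))
      (fun x => by
        rw [RingHom.comp_apply, symMap_ι]
        exact (symLift_ι σ g.toAddMonoidHom hgsemi (μ x)).trans (hg x)))) t
  have h1 : inv'.comp fwd = RingHom.id L := by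
    refine IsLocalization.ringHom_ext (Submonoid.powers a) (RingHom.ext fun t => ?_)
    show inv' (fwd (can t)) = can t
    rw [hfwd, hinv]
  have hP : ∀ t, fwd (inv' (symMap ρ μ hμ t)) = symMap ρ μ hμ t := fun t => by rw [hinv, hfwd]
  have hu' : ∀ s : Submonoid.powers r, IsUnit (symMap ρ μ hμ (algebraMap R T (s : R))) := fun s => by
    rw [symMap_algebraMap]
    exact (IsLocalization.map_units R' s).map (algebraMap R' (SymmetricAlgebra R' M'))
  have h2 : fwd.comp inv' = RingHom.id _ := by
    refine sym_hom_ext (fun c => ?_) (fun y => ?_)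
    · obtain ⟨⟨b, s⟩, hb⟩ := IsLocalization.surj (Submonoid.powers r) c
      have e : algebraMap R' (SymmetricAlgebra R' M') c * symMap ρ μ hμ (algebraMap R T (s : R)) =
          symMap ρ μ hμ (algebraMap R T b) := by
        rw [symMap_algebraMap, symMap_algebraMap, ← map_mul]
        exact congrArg _ hb
      have e' := congrArg (fwd.comp inv') e
      rw [map_mul, RingHom.comp_apply fwd inv' (symMap ρ μ hμ _), hP,
        RingHom.comp_apply fwd inv' (symMap ρ μ hμ _), hP, ← e] at e'
      exact (hu' s).mul_right_cancel e'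
    · obtain ⟨⟨x, s⟩, hs⟩ := IsLocalizedModule.surj (Submonoid.powers r) μL y
      have hs' : ρ (s : R) • y = μ x := hs
      have e : symMap ρ μ hμ (algebraMap R T (s : R)) * SymmetricAlgebra.ι R' M' y =
          symMap ρ μ hμ (SymmetricAlgebra.ι R M x) := by
        rw [symMap_algebraMap, symMap_ι, ← hs', map_smul, Algebra.smul_def]
      have e' := congrArg (fwd.comp inv') e
      rw [map_mul, RingHom.comp_apply fwd inv' (symMap ρ μ hμ _), hP,
        RingHom.comp_apply fwd inv' (symMap ρ μ hμ _), hP, ← e] at e'
      exact (hu' s).mul_left_cancel e'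
  exact IsLocalization.isLocalization_of_algEquiv (Submonoid.powers a)
    (AlgEquiv.ofRingEquiv (f := RingEquiv.ofRingHom fwd inv' h2 h1) hfwd)

end Groth.Agent.Eg2Sym
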