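import Groth.Agent.Eg2Sym.Local
import Groth.Agent.Eg2Sym.Glue
import Groth.Agent.Eg2Sym.Algebra
import Groth.Agent.QCoh.FT

/-!
# Existence of the symmetric algebra of a quasi-coherent module
-/

universe u

set_option linter.unusedVariables false

open CategoryTheory CategoryTheory.Limits AlgebraicGeometry TopologicalSpace Opposite

noncomputable section

namespace Groth.Agent.Eg2Sym

variable {S : Scheme.{u}} (E : S.Modules)

/-- Restriction of sections as an additive map. -/
def resHom {U V : S.Opens} (i : V ⟶ U) : Γ(E, U) →+ Γ(E, V) := (E.presheaf.map i.op).hom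

lemma resHom_smul {U V : S.Opens} (i : V ⟶ U) (r : Γ(S, U)) (x : Γ(E, U)) :
    resHom E i (r • x) = (S.presheaf.map i.op).hom r • resHom E i x :=
  QCoh.map_smul' i r x

/-- The map of symmetric algebras attached to an inclusion of opens. -/
def symRes {U V : S.Opens} (i : V ⟶ U) :
    SymmetricAlgebra Γ(S, U) Γ(E, U) →+* SymmetricAlgebra Γ(S, V) Γ(E, V) :=
  symMap (S.presheaf.map i.op).hom (resHom E i) (resHom_smul E i)

lemma symRes_id {U : S.Opens} (i : U ⟶ U) : symRes E i = RingHom.id _ :=
  sym_hom_ext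
    (fun r => by rw [symRes, symMap_algebraMap, RingHom.id_apply, QCoh.ringMap_id i r])
    (fun x => by rw [symRes, symMap_ι, RingHom.id_apply, resHom, QCoh.map_id' i x])

lemma symRes_comp {U V W : S.Opens} (i : V ⟶ U) (k : W ⟶ V) (l : W ⟶ U) :
    (symRes E k).comp (symRes E i) = symRes E l :=
  sym_hom_ext
    (fun r => by
      rw [RingHom.comp_apply, symRes, symRes, symRes, symMap_algebraMap, symMap_algebraMap,
        symMap_algebraMap, QCoh.ringMap_map k i r, Subsingleton.elim (k ≫ i) l])
    (fun x => by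
      rw [RingHom.comp_apply, symRes, symRes, symRes, symMap_ι, symMap_ι, symMap_ι, resHom, resHom,
        resHom, QCoh.map_map k i x, Subsingleton.elim (k ≫ i) l])

/-- The symmetric algebras on the small affine site. -/
def symFun : S.AffineZariskiSiteᵒᵖ ⥤ CommRingCat.{u} where
  obj U := CommRingCat.of (SymmetricAlgebra Γ(S, U.unop.1) Γ(E, U.unop.1))
  map {U V} i := CommRingCat.ofHom (symRes E (homOfLE (Scheme.AffineZariskiSite.toOpens_mono i.unop.le)))
  map_id U := CommRingCat.hom_ext (symRes_id E _)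
  map_comp f g := CommRingCat.hom_ext (symRes_comp E _ _ _).symm

/-- The constants. -/
def symStr : (Scheme.AffineZariskiSite.toOpensFunctor S).op ⋙ S.presheaf ⟶ symFun E where
  app U := CommRingCat.ofHom (R := Γ(S, U.unop.1))
    (algebraMap Γ(S, U.unop.1) (SymmetricAlgebra Γ(S, U.unop.1) Γ(E, U.unop.1)))
  naturality U V i := CommRingCat.hom_ext (RingHom.ext fun (r : Γ(S, U.unop.1)) =>
    (symMap_algebraMap (S.presheaf.map (homOfLE (Scheme.AffineZariskiSite.toOpens_mono i.unop.le)).op).hom
      (resHom E _) (resHom_smul E (homOfLE (Scheme.AffineZariskiSite.toOpens_mono i.unop.le))) r).symm)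

variable {E}

set_option backward.isDefEq.respectTransparency false in
lemma symStr_coequifibered (hE : Coh.IsQCoh E) : (symStr E).Coequifibered :=
  Scheme.AffineZariskiSite.coequifibered_iff_forall_isLocalizationAway.mpr fun U r => by
    have h := isLocalizationAway_sym (S.presheaf.map (homOfLE (S.basicOpen_le r)).op).hom
      (resHom E (homOfLE (S.basicOpen_le r))) (resHom_smul E _) r
      (U.2.isLocalization_basicOpen r) (QCoh.isLocalizedModule_basicRes r hE U.2)
    with_unfolding_all exact h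

set_option backward.isDefEq.respectTransparency false in
/-- A symmetric algebra, affine-locally. -/
theorem exists_isAffSym (hE : Coh.IsQCoh E) :
    ∃ (A : RelSpec.QCAlg S) (j : E ⟶ A.toModule), IsAffSym E A j := by
  let H := symStr_coequifibered hE
  let A : RelSpec.QCAlg S := Glue.alg H
  let e : ∀ U : S.AffineZariskiSite, A.presheaf.obj (op U.1) ≅ (symFun E).obj (op U) :=
    fun U => asIso (Glue.toF H U)
  have hstr : ∀ (U : S.AffineZariskiSite) (r : Γ(S, U.1)),
      (e U).inv.hom (algebraMap Γ(S, U.1) (SymmetricAlgebra Γ(S, U.1) Γ(E, U.1)) r) =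
        (A.str.app (op U.1)).hom r := by
    intro U r
    have h : (symStr E).app (op U) ≫ (e U).inv = A.str.app (op U.1) := by
      rw [Iso.comp_inv_eq]; exact (Glue.str_toF H U).symm
    exact congr($(h).hom r)
  have hnat : ∀ {U V : S.AffineZariskiSite} (i : V ⟶ U) (a : (symFun E).obj (op U)),
      (A.presheaf.map (homOfLE (Scheme.AffineZariskiSite.toOpens_mono i.le)).op).hom ((e U).inv.hom a) =
        (e V).inv.hom (((symFun E).map i.op).hom a) := by
    intro U V i a
    have h : (e U).inv ≫ A.presheaf.map (homOfLE (Scheme.AffineZariskiSite.toOpens_mono i.le)).op =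
        (symFun E).map i.op ≫ (e V).inv := by
      rw [Iso.inv_comp_eq, ← Category.assoc, Iso.eq_comp_inv]
      exact Glue.toF_nat H i
    exact congr($(h).hom a)
  -- the universal map on affine opens
  let φ : ∀ U : S.AffineZariskiSite, Γ(E, U.1) →+ A.presheaf.obj (op U.1) := fun U =>
    (e U).inv.hom.toAddMonoidHom.comp (SymmetricAlgebra.ι Γ(S, U.1) Γ(E, U.1)).toAddMonoidHom
  have hφ : ∀ (U : S.AffineZariskiSite) (r : Γ(S, U.1)) (x : Γ(E, U.1)),
      φ U (r • x) = (A.str.app (op U.1)).hom r * φ U x := by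
    intro U r x
    show (e U).inv.hom (SymmetricAlgebra.ι Γ(S, U.1) Γ(E, U.1) (r • x)) = _
    rw [map_smul, Algebra.smul_def, ← hstr]
    exact map_mul (e U).inv.hom _ _
  have hres : ∀ {U V : S.AffineZariskiSite} (i : V ⟶ U) (x : Γ(E, U.1)),
      (A.presheaf.map (homOfLE (Scheme.AffineZariskiSite.toOpens_mono i.le)).op).hom (φ U x) =
        φ V (E.presheaf.map (homOfLE (Scheme.AffineZariskiSite.toOpens_mono i.le)).op x) := by
    intro U V i x
    show (A.presheaf.map (homOfLE (Scheme.AffineZariskiSite.toOpens_mono i.le)).op).hom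
      ((e U).inv.hom (SymmetricAlgebra.ι Γ(S, U.1) Γ(E, U.1) x)) = _
    rw [hnat i]
    exact congrArg (e V).inv.hom (symMap_ι
      (S.presheaf.map (homOfLE (Scheme.AffineZariskiSite.toOpens_mono i.le)).op).hom
      (resHom E (homOfLE (Scheme.AffineZariskiSite.toOpens_mono i.le)))
      (resHom_smul E (homOfLE (Scheme.AffineZariskiSite.toOpens_mono i.le))) x)
  -- extend to a map of modules
  let α : (Scheme.AffineZariskiSite.toOpensFunctor S).op ⋙ E.presheaf ⟶
      (Scheme.AffineZariskiSite.toOpensFunctor S).op ⋙ A.toModule.presheaf :=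
    { app := fun U => AddCommGrpCat.ofHom (φ U.unop)
      naturality := fun U V i => AddCommGrpCat.ext fun x => (hres i.unop x).symm }
  let β : E.presheaf ⟶ A.toModule.presheaf :=
    Functor.IsCoverDense.restrictHomEquivHom (G := Scheme.AffineZariskiSite.toOpensFunctor S)
      (K := Opens.grothendieckTopology S) (ℱ := E.presheaf)
      (ℱ' := (⟨A.toModule.presheaf, A.toModule.isSheaf⟩ : TopCat.Sheaf AddCommGrpCat.{u} S.carrier)) α
  have hβ : ∀ (U : S.AffineZariskiSite) (x : Γ(E, U.1)), β.app (op U.1) x = φ U x := fun U x =>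
    congrArg (fun g => (ConcreteCategory.hom g) x) (NatTrans.congr_app
      ((Functor.IsCoverDense.restrictHomEquivHom (G := Scheme.AffineZariskiSite.toOpensFunctor S)
        (K := Opens.grothendieckTopology S) (ℱ := E.presheaf)
        (ℱ' := (⟨A.toModule.presheaf, A.toModule.isSheaf⟩ :
          TopCat.Sheaf AddCommGrpCat.{u} S.carrier))).symm_apply_apply α) (op U))
  have hlin : ∀ (W : S.Opens) (r : Γ(S, W)) (m : Γ(E, W)),
      β.app (op W) (r • m) = r • (β.app (op W) m : Γ(A.toModule, W)) := by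
    intro W r m
    rw [← sub_eq_zero]
    refine QCoh.eq_zero_of_locally (M := A.toModule) W _ fun p hp => ?_
    obtain ⟨V, hV, hpV, hVW0⟩ := exists_isAffineOpen_mem_and_subset (x := p) (U := W) hp
    have hVW : V ≤ W := hVW0
    refine ⟨V, homOfLE hVW, hpV, ?_⟩
    rw [map_sub, sub_eq_zero]
    have nat : ∀ y : Γ(E, W), A.toModule.presheaf.map (homOfLE hVW).op (β.app (op W) y) =
        φ ⟨V, hV⟩ (E.presheaf.map (homOfLE hVW).op y) := fun y => by
      refine Eq.trans ?_ (hβ ⟨V, hV⟩ _)
      exact (ConcreteCategory.congr_hom (β.naturality (homOfLE hVW : V ⟶ W).op) y).symm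
    rw [nat, Scheme.Modules.map_smul, hφ, Scheme.Modules.map_smul, nat]
    rfl
  let j : E ⟶ A.toModule := ⟨PresheafOfModules.homMk β fun W r m => hlin W.unop r m⟩
  have hj : ∀ (U : S.AffineZariskiSite) (x : Γ(E, U.1)),
      jApp j U.1 x = (e U).inv.hom (SymmetricAlgebra.ι Γ(S, U.1) Γ(E, U.1) x) := hβ
  refine ⟨A, j, fun U hU => ?_⟩
  let U' : S.AffineZariskiSite := ⟨U, hU⟩
  refine ⟨fun {T} g g' hs hx => ?_, fun {T} σ f hf => ?_⟩
  · have : (e U').inv ≫ g = (e U').inv ≫ g' := by
      refine CommRingCat.hom_ext (sym_hom_ext (fun r => ?_) (fun x => ?_))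
      · show g.hom ((e U').inv.hom _) = g'.hom ((e U').inv.hom _)
        rw [hstr U' r]; exact hs r
      · show g.hom ((e U').inv.hom _) = g'.hom ((e U').inv.hom _)
        rw [← hj U' x]; exact hx x
    exact (cancel_epi (e U').inv).mp this
  · refine ⟨(e U').hom ≫ CommRingCat.ofHom (symLift σ f hf), fun r => ?_, fun x => ?_⟩
    · show symLift σ f hf ((e U').hom.hom _) = _
      rw [← hstr U' r]
      exact (congrArg (symLift σ f hf) (congr($((e U').inv_hom_id).hom _))).trans
        (symLift_algebraMap σ f hf r)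
    · show symLift σ f hf ((e U').hom.hom _) = _
      rw [hj U' x]
      exact (congrArg (symLift σ f hf) (congr($((e U').inv_hom_id).hom _))).trans
        (symLift_ι σ f hf x)

lemma toModuleMap_comp {A B C : RelSpec.QCAlg S} (a : A ⟶ B) (b : B ⟶ C) :
    RelSpec.QCAlg.Hom.toModuleMap (a ≫ b) =
      RelSpec.QCAlg.Hom.toModuleMap a ≫ RelSpec.QCAlg.Hom.toModuleMap b :=
  Scheme.Modules.hom_ext _ _ fun U => rfl

lemma toModuleMap_id (A : RelSpec.QCAlg S) :
    RelSpec.QCAlg.Hom.toModuleMap (𝟙 A : A ⟶ A) = 𝟙 A.toModule :=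
  Scheme.Modules.hom_ext _ _ fun U => rfl

/-- The affine-local description of any symmetric algebra. -/
theorem isAffSym_of_isSymAlg (hE : Coh.IsQCoh E) {A : RelSpec.QCAlg S} {j : E ⟶ A.toModule}
    (h : RelSpec.IsSymAlg E A j) : IsAffSym E A j := by
  obtain ⟨A₀, j₀, h₀⟩ := exists_isAffSym hE
  obtain ⟨a, ha, -⟩ := h₀.isSymAlg A j
  obtain ⟨b, hb, -⟩ := h A₀ j₀
  have hab : a ≫ b = 𝟙 A₀ := (h₀.isSymAlg A₀ j₀).unique
    (by rw [toModuleMap_comp, ← Category.assoc, ha, hb])
    (by rw [toModuleMap_id, Category.comp_id])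
  have hba : b ≫ a = 𝟙 A := (h A j).unique
    (by rw [toModuleMap_comp, ← Category.assoc, hb, ha])
    (by rw [toModuleMap_id, Category.comp_id])
  exact h₀.of_iso ⟨a, b, hab, hba⟩ ha

end Groth.Agent.Eg2Sym
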