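import Mathlib.AlgebraicGeometry.Morphisms.Finite
import Mathlib.AlgebraicGeometry.Limits

/-!
# A pair of closed immersions with disjoint images
-/

universe u

open CategoryTheory CategoryTheory.Limits AlgebraicGeometry Topology

namespace Groth.Agent.Eg2Sym

/-- Two closed immersions with disjoint images give a closed immersion of the coproduct. -/
theorem isClosedImmersion_coprodDesc {A B P : Scheme.{u}} (f : A ⟶ P) (g : B ⟶ P) [IsClosedImmersion f]
    [IsClosedImmersion g] (h : ∀ (a : A) (b : B), f a ≠ g b) : IsClosedImmersion (coprod.desc f g) := by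
  set k := coprod.desc f g
  have hfin : IsFinite k := inferInstanceAs (IsFinite (coprod.desc f g))
  have hf : ∀ a, k ((coprod.inl : A ⟶ A ⨿ B) a) = f a := fun a => by
    rw [← Scheme.Hom.comp_apply, coprod.inl_desc]
  have hg : ∀ b, k ((coprod.inr : B ⟶ A ⨿ B) b) = g b := fun b => by
    rw [← Scheme.Hom.comp_apply, coprod.inr_desc]
  have hcases : ∀ x : ↥(A ⨿ B), (∃ a, (coprod.inl : A ⟶ A ⨿ B) a = x) ∨ ∃ b, (coprod.inr : B ⟶ A ⨿ B) b = x := by
    intro x
    obtain ⟨a | b, rfl⟩ := (coprodMk A B).surjective x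
    · exact Or.inl ⟨a, (coprodMk_inl A B a).symm⟩
    · exact Or.inr ⟨b, (coprodMk_inr A B b).symm⟩
  have hinj : Function.Injective k := by
    intro x y hxy
    rcases hcases x with ⟨a, rfl⟩ | ⟨b, rfl⟩ <;> rcases hcases y with ⟨a', rfl⟩ | ⟨b', rfl⟩ <;>
      simp only [hf, hg] at hxy
    · rw [f.isClosedEmbedding.injective hxy]
    · exact absurd hxy (h a b')
    · exact absurd hxy.symm (h a' b)
    · rw [g.isClosedEmbedding.injective hxy]
  have hstalk : ∀ {C : Scheme.{u}} (i : C ⟶ A ⨿ B) [IsOpenImmersion i] [SurjectiveOnStalks (i ≫ k)] (c : C),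
      Function.Surjective (k.stalkMap (i c)) := by
    intro C i _ hi c
    have h1 := (i ≫ k).stalkMap_surjective c
    rw [Scheme.Hom.stalkMap_comp] at h1
    have hbij : Function.Bijective (i.stalkMap c) := ConcreteCategory.bijective_of_isIso _
    exact fun y => by
      obtain ⟨z, hz⟩ := h1 ((i.stalkMap c) y)
      exact ⟨z, hbij.injective hz⟩
  have : SurjectiveOnStalks k := ⟨fun x => by
    rcases hcases x with ⟨a, rfl⟩ | ⟨b, rfl⟩
    · have : SurjectiveOnStalks (coprod.inl ≫ k) := by rw [coprod.inl_desc]; infer_instance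
      exact hstalk coprod.inl a
    · have : SurjectiveOnStalks (coprod.inr ≫ k) := by rw [coprod.inr_desc]; infer_instance
      exact hstalk coprod.inr b⟩
  exact { isClosedEmbedding := IsClosedEmbedding.of_continuous_injective_isClosedMap k.continuous hinj k.isClosedMap }

end Groth.Agent.Eg2Sym
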