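import Mathlib.RingTheory.GradedAlgebra.Homogeneous.Ideal
import Mathlib.Algebra.Algebra.Operations
import Mathlib.Algebra.Polynomial.Monomial
import Mathlib.Algebra.Polynomial.Eval.Coeff
import Mathlib.Algebra.DirectSum.Internal

/-!
# Gradings of algebras generated in degree one
-/

universe u

open scoped DirectSum HomogeneousIdeal
open Polynomial

set_option linter.style.haveILetI false

noncomputable section

namespace Groth.Agent.Eg2Sym

/-- A grading from a map to polynomials which is `monomial d` in degree `d`. -/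
@[instance_reducible]
def gradedRingOfMonomial {B : Type u} [CommRing B] (G : ℕ → AddSubgroup B) (one_mem : (1 : B) ∈ G 0)
    (mul_mem : ∀ {i k : ℕ} {a b : B}, a ∈ G i → b ∈ G k → a * b ∈ G (i + k)) (t : B →+* B[X])
    (hG : ∀ d a, a ∈ G d → t a = monomial d a) (hcoeff : ∀ a d, (t a).coeff d ∈ G d)
    (heval : ∀ a, (t a).eval 1 = a) : GradedRing G where
  one_mem := one_mem
  mul_mem := fun _ _ _ _ ha hb => mul_mem ha hb
  decompose' a := ∑ d ∈ (t a).support, DirectSum.of (fun d => G d) d ⟨(t a).coeff d, hcoeff a d⟩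
  left_inv a := by
    have h2 : (∑ d ∈ (t a).support, (t a).coeff d) = a := by
      conv_rhs => rw [← heval a, eval_eq_sum, Polynomial.sum_def]
      exact Finset.sum_congr rfl fun d _ => by rw [one_pow, mul_one]
    rw [map_sum]
    refine (Finset.sum_congr rfl fun d _ => ?_).trans h2
    exact DirectSum.coeAddMonoidHom_of G d _
  right_inv z := by
    classical
    refine DFinsupp.ext fun d => Subtype.ext ?_
    have h : (t (DirectSum.coeAddMonoidHom (fun d => G d) z)).coeff d = (z d : B) := by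
      induction z using DirectSum.induction_on with
      | zero => simp
      | of e b =>
        rw [DirectSum.coeAddMonoidHom_of, hG e _ b.2, coeff_monomial, DirectSum.coe_of_apply]
        split_ifs <;> rfl
      | add x y hx hy => rw [map_add, map_add, coeff_add, hx, hy, DirectSum.add_apply]; rfl
    rw [← h, DFinsupp.finsetSum_apply]
    refine (map_sum (G d).subtype _ _).trans ?_
    rw [Finset.sum_eq_single d]
    all_goals simp only [AddSubgroup.coe_subtype]
    · rw [DirectSum.of_eq_same]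
    · intro e _ hed
      rw [DirectSum.of_eq_of_ne e d _ hed.symm]
      rfl
    · intro hd
      rw [DirectSum.of_eq_same]
      exact notMem_support_iff.mp hd

variable {R B M : Type u} [CommRing R] [CommRing B] [AddCommGroup M] [Module R M]
  (σ : R →+* B) (f : M →+ B) (hf : ∀ r x, f (r • x) = σ r * f x)

/-- The additive subgroup of sums of products of `d` values of `f` with coefficients. -/
def powSub (d : ℕ) : AddSubgroup B :=
  letI := σ.toAlgebra
  ((LinearMap.range ({ toFun := f, map_add' := f.map_add, map_smul' := hf } : M →ₗ[R] B)) ^ d).toAddSubgroup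

theorem mem_powSub_zero {a : B} : a ∈ powSub σ f hf 0 ↔ ∃ r, σ r = a := by
  letI := σ.toAlgebra
  show a ∈ (_ : Submodule R B) ^ 0 ↔ _
  rw [pow_zero, Submodule.mem_one]
  rfl

theorem mem_powSub_one {a : B} : a ∈ powSub σ f hf 1 ↔ ∃ x, f x = a := by
  letI := σ.toAlgebra
  show a ∈ (_ : Submodule R B) ^ 1 ↔ _
  rw [pow_one]
  rfl

theorem one_mem_powSub : (1 : B) ∈ powSub σ f hf 0 :=
  (mem_powSub_zero σ f hf).mpr ⟨1, σ.map_one⟩

theorem mul_mem_powSub {i k : ℕ} {a b : B} (ha : a ∈ powSub σ f hf i) (hb : b ∈ powSub σ f hf k) :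
    a * b ∈ powSub σ f hf (i + k) := by
  letI := σ.toAlgebra
  show a * b ∈ (_ : Submodule R B) ^ (i + k)
  rw [pow_add]
  exact Submodule.mul_mem_mul ha hb

theorem powSub_succ_induction {d : ℕ} {P : B → Prop} {a : B} (ha : a ∈ powSub σ f hf (d + 1))
    (hmul : ∀ b ∈ powSub σ f hf d, ∀ x, P (b * f x)) (hadd : ∀ b c, P b → P c → P (b + c)) : P a := by
  letI := σ.toAlgebra
  change a ∈ (_ : Submodule R B) ^ (d + 1) at ha
  rw [pow_succ] at ha
  refine Submodule.mul_induction_on ha (fun b hb c hc => ?_) hadd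
  obtain ⟨x, rfl⟩ := hc
  exact hmul b hb x

theorem powSub_le_of_graded {𝒜 : ℕ → AddSubgroup B} [SetLike.GradedMonoid 𝒜]
    (hσ : ∀ r, σ r ∈ 𝒜 0) (hf1 : ∀ x, f x ∈ 𝒜 1) : ∀ d, powSub σ f hf d ≤ 𝒜 d
  | 0 => fun a ha => by
    obtain ⟨r, rfl⟩ := (mem_powSub_zero σ f hf).mp ha
    exact hσ r
  | d + 1 => fun a ha =>
    powSub_succ_induction σ f hf ha
      (fun b hb x => SetLike.mul_mem_graded (powSub_le_of_graded hσ hf1 d hb) (hf1 x))
      (fun b c hb hc => (𝒜 (d + 1)).add_mem hb hc)

/-- `powSub` is mapped into `powSub`. -/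
theorem map_mem_powSub {R' B' M' : Type u} [CommRing R'] [CommRing B'] [AddCommGroup M'] [Module R' M']
    (σ' : R' →+* B') (f' : M' →+ B') (hf' : ∀ r x, f' (r • x) = σ' r * f' x) (φ : B →+* B')
    (hσ : ∀ r, φ (σ r) ∈ powSub σ' f' hf' 0) (hfφ : ∀ x, φ (f x) ∈ powSub σ' f' hf' 1) :
    ∀ (d : ℕ) {a : B}, a ∈ powSub σ f hf d → φ a ∈ powSub σ' f' hf' d
  | 0, a, ha => by
    obtain ⟨r, rfl⟩ := (mem_powSub_zero σ f hf).mp ha
    exact hσ r
  | d + 1, a, ha =>
    powSub_succ_induction σ f hf (P := fun a => φ a ∈ powSub σ' f' hf' (d + 1)) ha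
      (fun b hb x => by
        show φ (b * f x) ∈ _
        rw [map_mul]
        exact mul_mem_powSub σ' f' hf' (map_mem_powSub σ' f' hf' φ hσ hfφ d hb) (hfφ x))
      (fun b c hb hc => by show φ (b + c) ∈ _; rw [map_add]; exact AddSubgroup.add_mem _ hb hc)

/-- Induction over an algebra generated by `σ` and `f`. -/
theorem induction_of_closure (hgen : Subring.closure (Set.range σ ∪ Set.range f) = ⊤) {P : B → Prop}
    (hpow : ∀ d, ∀ a ∈ powSub σ f hf d, P a) (hadd : ∀ b c, P b → P c → P (b + c)) (a : B) : P a := by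
  letI := σ.toAlgebra
  let J : Submodule R B := LinearMap.range ({ toFun := f, map_add' := f.map_add, map_smul' := hf } : M →ₗ[R] B)
  have hTmul : ∀ x ∈ ⨆ d, J ^ d, ∀ y ∈ ⨆ d, J ^ d, x * y ∈ ⨆ d, J ^ d := fun x hx y hy => by
    have h := Submodule.mul_mem_mul hx hy
    rw [Submodule.iSup_mul] at h
    refine (iSup_le fun i => ?_ : (⨆ i, J ^ i * ⨆ d, J ^ d) ≤ ⨆ d, J ^ d) h
    rw [Submodule.mul_iSup]
    refine iSup_le fun k => ?_
    rw [← pow_add]
    exact le_iSup (fun d => J ^ d) (i + k)
  have h0 : ∀ r, σ r ∈ ⨆ d, J ^ d := fun r =>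
    le_iSup (fun d => J ^ d) 0 ((mem_powSub_zero σ f hf).mpr ⟨r, rfl⟩)
  have hmem : a ∈ ⨆ d, J ^ d := by
    have ha : a ∈ Subring.closure (Set.range σ ∪ Set.range f) := by rw [hgen]; exact Subring.mem_top a
    induction ha using Subring.closure_induction with
    | mem x hx =>
      rcases hx with ⟨r, rfl⟩ | ⟨x, rfl⟩
      · exact h0 r
      · exact le_iSup (fun d => J ^ d) 1 ((mem_powSub_one σ f hf).mpr ⟨x, rfl⟩)
    | zero => exact Submodule.zero_mem _
    | one => rw [← σ.map_one]; exact h0 1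
    | add x y _ _ hx hy => exact Submodule.add_mem _ hx hy
    | neg x _ hx => exact Submodule.neg_mem _ hx
    | mul x y _ _ hx hy => exact hTmul x hx y hy
  exact Submodule.iSup_induction (fun d => J ^ d) (motive := P) hmem hpow
    (hpow 0 0 (AddSubgroup.zero_mem _)) hadd

section graded

variable {𝒜 : ℕ → AddSubgroup B} [GradedRing 𝒜]
  (hσ : ∀ r, σ r ∈ 𝒜 0) (hf1 : ∀ x, f x ∈ 𝒜 1)
  (hgen : Subring.closure (Set.range σ ∪ Set.range f) = ⊤)

include hf hσ hf1 hgen

theorem deg_eq_powSub (d : ℕ) : 𝒜 d = powSub σ f hf d := by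
  refine le_antisymm (fun a ha => ?_) (powSub_le_of_graded σ f hf hσ hf1 d)
  have key : ∀ b : B, GradedRing.proj 𝒜 d b ∈ powSub σ f hf d := by
    refine fun b => induction_of_closure σ f hf hgen
      (P := fun b => GradedRing.proj 𝒜 d b ∈ powSub σ f hf d) (fun e b hb => ?_) (fun b c hb hc => ?_) b
    · have hb' := powSub_le_of_graded σ f hf hσ hf1 e hb
      rw [GradedRing.proj_apply]
      rcases eq_or_ne e d with rfl | hne
      · rw [DirectSum.decompose_of_mem_same 𝒜 hb']; exact hb
      · rw [DirectSum.decompose_of_mem_ne 𝒜 hb' hne]; exact AddSubgroup.zero_mem _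
    · rw [map_add]; exact AddSubgroup.add_mem _ hb hc
  have h := key a
  rwa [GradedRing.proj_apply, DirectSum.decompose_of_mem_same 𝒜 ha] at h

theorem irrelevant_le_span : (𝒜₊).toIdeal ≤ Ideal.span (Set.range f) := by
  intro a ha
  have key : ∀ b : B, b - GradedRing.proj 𝒜 0 b ∈ Ideal.span (Set.range f) := by
    refine fun b => induction_of_closure σ f hf hgen
      (P := fun b => b - GradedRing.proj 𝒜 0 b ∈ Ideal.span (Set.range f))
      (fun e b hb => ?_) (fun b c hb hc => ?_) b
    · have hb' := powSub_le_of_graded σ f hf hσ hf1 e hb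
      rw [GradedRing.proj_apply]
      rcases e with _ | e
      · rw [DirectSum.decompose_of_mem_same 𝒜 hb', sub_self]; exact Ideal.zero_mem _
      · rw [DirectSum.decompose_of_mem_ne 𝒜 hb' (Nat.succ_ne_zero e), sub_zero]
        exact powSub_succ_induction σ f hf hb
          (fun c _ x => Ideal.mul_mem_left _ c (Ideal.subset_span ⟨x, rfl⟩))
          (fun c c' hc hc' => Ideal.add_mem _ hc hc')
    · rw [map_add, add_sub_add_comm]; exact Ideal.add_mem _ hb hc
  have h := key a
  rwa [(HomogeneousIdeal.mem_irrelevant_iff 𝒜 a).mp ha, sub_zero] at h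

omit hf hσ hgen in
theorem span_le_irrelevant : Ideal.span (Set.range f) ≤ (𝒜₊).toIdeal := by
  rw [Ideal.span_le]
  rintro _ ⟨x, rfl⟩
  show GradedRing.proj 𝒜 0 (f x) = 0
  rw [GradedRing.proj_apply]
  exact DirectSum.decompose_of_mem_ne 𝒜 (hf1 x) one_ne_zero

end graded

section construct

variable (hgen : Subring.closure (Set.range σ ∪ Set.range f) = ⊤) (t : B →+* B[X])
  (htσ : ∀ r, t (σ r) = C (σ r)) (htf : ∀ x, t (f x) = C (f x) * X)

include htσ htf

theorem t_of_mem : ∀ (d : ℕ) {a : B}, a ∈ powSub σ f hf d → t a = monomial d a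
  | 0, a, ha => by
    obtain ⟨r, rfl⟩ := (mem_powSub_zero σ f hf).mp ha
    rw [htσ, monomial_zero_left]
  | d + 1, a, ha =>
    powSub_succ_induction σ f hf (P := fun a => t a = monomial (d + 1) a) ha
      (fun b hb x => by
        show t (b * f x) = monomial (d + 1) (b * f x)
        rw [map_mul, t_of_mem d hb, htf, ← monomial_zero_left, X, monomial_mul_monomial,
          monomial_mul_monomial, mul_one, zero_add])
      (fun b c hb hc => by show t (b + c) = monomial (d + 1) (b + c); rw [map_add, map_add, hb, hc])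

include hf hgen

theorem coeff_t_mem (a : B) (d : ℕ) : (t a).coeff d ∈ powSub σ f hf d := by
  refine induction_of_closure σ f hf hgen (P := fun a => (t a).coeff d ∈ powSub σ f hf d)
    (fun e b hb => ?_) (fun b c hb hc => ?_) a
  · rw [t_of_mem σ f hf t htσ htf e hb, coeff_monomial]
    split_ifs with h
    · exact h ▸ hb
    · exact AddSubgroup.zero_mem _
  · rw [map_add, coeff_add]; exact AddSubgroup.add_mem _ hb hc

theorem eval_t (b : B) : (t b).eval 1 = b := by
  refine induction_of_closure σ f hf hgen (P := fun b => (t b).eval 1 = b)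
    (fun e b hb => ?_) (fun b c hb hc => ?_) b
  · rw [t_of_mem σ f hf t htσ htf e hb, eval_monomial, one_pow, mul_one]
  · rw [map_add, eval_add, hb, hc]

/-- The grading by `powSub`, from the universal grading map. -/
@[instance_reducible]
def gradedRingOfHom : GradedRing (fun d => powSub σ f hf d) :=
  gradedRingOfMonomial _ (one_mem_powSub σ f hf) (fun ha hb => mul_mem_powSub σ f hf ha hb) t
    (fun d _ ha => t_of_mem σ f hf t htσ htf d ha) (coeff_t_mem σ f hf hgen t htσ htf)
    (eval_t σ f hf hgen t htσ htf)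

end construct

end Groth.Agent.Eg2Sym
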