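import Groth.Agent.Eg2Sym.Construct
import Groth.Agent.Eg2Sym.GradedAlgebra
import Groth.Prelude.Def_RelProj2

/-!
# Graded symmetric algebras
-/

universe u

set_option linter.unusedVariables false

open CategoryTheory CategoryTheory.Limits AlgebraicGeometry TopologicalSpace Opposite
open scoped HomogeneousIdeal Polynomial

noncomputable section

namespace Groth.Agent.Eg2Sym

variable {S : Scheme.{u}} {E : S.Modules}

/-- Degree `d` of a symmetric algebra over `U`. -/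
def deg {A : RelSpec.QCAlg S} (j : E ⟶ A.toModule) (U : S.Opens) (d : ℕ) :
    AddSubgroup (A.presheaf.obj (op U)) :=
  powSub (A.str.app (op U)).hom (jApp j U) (jApp_smul j U) d

variable {𝒮 : RelProj.QCGrAlg S} {j : E ⟶ 𝒮.toModule}

theorem isAffSymAt_gr (hE : Coh.IsQCoh E) (hj : RelProj.IsGrSymAlg E 𝒮 j) {U : S.Opens}
    (hU : IsAffineOpen U) : IsAffSymAt E 𝒮.toQCAlg j U :=
  isAffSym_of_isSymAlg hE hj.1 U hU

theorem deg_eq (hE : Coh.IsQCoh E) (hj : RelProj.IsGrSymAlg E 𝒮 j) {U : S.Opens} (hU : IsAffineOpen U)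
    (d : ℕ) : 𝒮.deg U hU d = deg (A := 𝒮.toQCAlg) j U d :=
  deg_eq_powSub (𝒜 := 𝒮.deg U hU) _ _ _ (𝒮.str_mem U hU) (hj.2 U hU)
    (isAffSymAt_gr hE hj hU).closure_eq_top d

theorem mem_deg_one (hE : Coh.IsQCoh E) (hj : RelProj.IsGrSymAlg E 𝒮 j) {U : S.Opens} (hU : IsAffineOpen U)
    {a : 𝒮.presheaf.obj (op U)} :
    a ∈ 𝒮.deg U hU 1 ↔ ∃ x, jApp (A := 𝒮.toQCAlg) j U x = a := by
  rw [deg_eq hE hj hU]
  exact mem_powSub_one _ _ _

theorem mem_deg_zero (hE : Coh.IsQCoh E) (hj : RelProj.IsGrSymAlg E 𝒮 j) {U : S.Opens} (hU : IsAffineOpen U)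
    {a : 𝒮.presheaf.obj (op U)} :
    a ∈ 𝒮.deg U hU 0 ↔ ∃ r, (𝒮.str.app (op U)).hom r = a := by
  rw [deg_eq hE hj hU]
  exact mem_powSub_zero _ _ _

/-- The irrelevant ideal is generated by `E`. -/
theorem irrelevant_eq_span (hE : Coh.IsQCoh E) (hj : RelProj.IsGrSymAlg E 𝒮 j) {U : S.Opens}
    (hU : IsAffineOpen U) :
    ((𝒮.deg U hU)₊).toIdeal = Ideal.span (Set.range (jApp (A := 𝒮.toQCAlg) j U)) :=
  le_antisymm
    (irrelevant_le_span (𝒜 := 𝒮.deg U hU) _ _ (jApp_smul (A := 𝒮.toQCAlg) j U) (𝒮.str_mem U hU) (hj.2 U hU)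
      (isAffSymAt_gr hE hj hU).closure_eq_top)
    (span_le_irrelevant (𝒜 := 𝒮.deg U hU) _ (hj.2 U hU))

/-- The universal grading map. -/
theorem exists_gradingHom {A : RelSpec.QCAlg S} {j : E ⟶ A.toModule} {U : S.Opens}
    (h : IsAffSymAt E A j U) :
    ∃ t : A.presheaf.obj (op U) →+* (A.presheaf.obj (op U))[X],
      (∀ r, t ((A.str.app (op U)).hom r) = Polynomial.C ((A.str.app (op U)).hom r)) ∧
      ∀ x, t (jApp j U x) = Polynomial.C (jApp j U x) * Polynomial.X := by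
  let f : Γ(E, U) →+ (A.presheaf.obj (op U))[X] :=
    { toFun := fun x => Polynomial.C (jApp j U x) * Polynomial.X
      map_zero' := by simp
      map_add' := fun x y => by rw [map_add, map_add, add_mul] }
  obtain ⟨g, h1, h2⟩ := h.exists_lift (R := CommRingCat.of (A.presheaf.obj (op U))[X])
    ((Polynomial.C).comp (A.str.app (op U)).hom) f fun r x => by
      show Polynomial.C (jApp j U (r • x)) * Polynomial.X =
        Polynomial.C ((A.str.app (op U)).hom r) * (Polynomial.C (jApp j U x) * Polynomial.X)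
      rw [jApp_smul, map_mul, mul_assoc]
  exact ⟨g.hom, h1, h2⟩

/-- The graded symmetric algebra of a quasi-coherent module. -/
def grAlg {A : RelSpec.QCAlg S} {j : E ⟶ A.toModule} (h : IsAffSym E A j) : RelProj.QCGrAlg S where
  toQCAlg := A
  deg U _ d := deg j U d
  graded U hU := gradedRingOfHom _ _ _ (h U hU).closure_eq_top
    (exists_gradingHom (h U hU)).choose (exists_gradingHom (h U hU)).choose_spec.1
    (exists_gradingHom (h U hU)).choose_spec.2
  map_mem {U V} hU hV i {d x} hx :=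
    map_mem_powSub _ _ _ _ _ (jApp_smul j V) (A.presheaf.map (homOfLE i).op).hom
      (fun r => (mem_powSub_zero _ _ _).mpr ⟨_, (str_res A (homOfLE i) r).symm⟩)
      (fun e => (mem_powSub_one _ _ _).mpr ⟨_, (jApp_res j (homOfLE i) e).symm⟩) d hx
  str_mem U _ r := (mem_powSub_zero _ _ _).mpr ⟨r, rfl⟩

/-- A graded symmetric algebra exists. -/
theorem exists_isGrSymAlg (hE : Coh.IsQCoh E) :
    ∃ (𝒮 : RelProj.QCGrAlg S) (j : E ⟶ 𝒮.toModule), RelProj.IsGrSymAlg E 𝒮 j := by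
  obtain ⟨A, j, h⟩ := exists_isAffSym hE
  exact ⟨grAlg h, j, h.isSymAlg, fun U _ x =>
    (mem_powSub_one (A.str.app (op U)).hom (jApp j U) (jApp_smul j U)).mpr ⟨x, rfl⟩⟩

end Groth.Agent.Eg2Sym
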