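import Groth.Prelude.Def_RelSpec
import Groth.Agent.QCoh.Sections
import Groth.Agent.ProjDualR.HomAffine

/-!
# Symmetric algebras affine-locally

`IsAffSym E A j`: over every affine open `U` the ring `A(U)` with `j` has the universal property of the
symmetric algebra of `E(U)` over `O(U)`.  It implies `RelSpec.IsSymAlg E A j`.
-/

universe u

open CategoryTheory CategoryTheory.Limits AlgebraicGeometry TopologicalSpace Opposite

noncomputable section

namespace Groth.Agent.Eg2Sym

variable {S : Scheme.{u}} {E : S.Modules} {A B C : RelSpec.QCAlg S}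

/-- A module map into an algebra, on sections, as a map into the ring. -/
def jApp (j : E ⟶ A.toModule) (U : S.Opens) : Γ(E, U) →+ A.presheaf.obj (op U) where
  toFun x := j.app U x
  map_zero' := map_zero (j.app U).hom
  map_add' := map_add (j.app U).hom

lemma jApp_smul (j : E ⟶ A.toModule) (U : S.Opens) (r : Γ(S, U)) (x : Γ(E, U)) :
    jApp j U (r • x) = (A.str.app (op U)).hom r * jApp j U x :=
  j.app_smul r x

lemma jApp_res (j : E ⟶ A.toModule) {U V : S.Opens} (i : V ⟶ U) (x : Γ(E, U)) :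
    (A.presheaf.map i.op).hom (jApp j U x) = jApp j V (E.presheaf.map i.op x) :=
  (QCoh.map_app_comm j i x).symm

lemma str_res (A : RelSpec.QCAlg S) {U V : S.Opens} (i : V ⟶ U) (r : Γ(S, U)) :
    (A.presheaf.map i.op).hom ((A.str.app (op U)).hom r) =
      (A.str.app (op V)).hom ((S.presheaf.map i.op).hom r) :=
  (congr($(A.str.naturality i.op).hom r)).symm

lemma jApp_toModuleMap (j : E ⟶ A.toModule) (ψ : A ⟶ B) (U : S.Opens) (x : Γ(E, U)) :
    jApp (j ≫ RelSpec.QCAlg.Hom.toModuleMap ψ) U x = (ψ.hom.app (op U)).hom (jApp j U x) := rfl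

lemma hom_str (ψ : A ⟶ B) (U : S.Opens) (r : Γ(S, U)) :
    (ψ.hom.app (op U)).hom ((A.str.app (op U)).hom r) = (B.str.app (op U)).hom r :=
  congr($(congr_arg (fun f => NatTrans.app f (op U)) ψ.comm).hom r)

variable (E A) in
/-- Over `U`, `A(U)` with `j` is the symmetric algebra of `E(U)` over `O(U)`: the universal property. -/
structure IsAffSymAt (j : E ⟶ A.toModule) (U : S.Opens) : Prop where
  ext : ∀ {R : CommRingCat.{u}} (g g' : A.presheaf.obj (op U) ⟶ R),
    (∀ r, g.hom ((A.str.app (op U)).hom r) = g'.hom ((A.str.app (op U)).hom r)) →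
    (∀ x, g.hom (jApp j U x) = g'.hom (jApp j U x)) → g = g'
  exists_lift : ∀ {R : CommRingCat.{u}} (σ : Γ(S, U) →+* R) (f : Γ(E, U) →+ R),
    (∀ r x, f (r • x) = σ r * f x) →
    ∃ g : A.presheaf.obj (op U) ⟶ R,
      (∀ r, g.hom ((A.str.app (op U)).hom r) = σ r) ∧ ∀ x, g.hom (jApp j U x) = f x

variable (E A) in
/-- `IsAffSymAt` over every affine open. -/
def IsAffSym (j : E ⟶ A.toModule) : Prop := ∀ U : S.Opens, IsAffineOpen U → IsAffSymAt E A j U

/-- `A(U)` is generated by the constants and the image of `j`. -/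
theorem IsAffSymAt.closure_eq_top {j : E ⟶ A.toModule} {U : S.Opens} (h : IsAffSymAt E A j U) :
    Subring.closure (Set.range (A.str.app (op U)).hom ∪ Set.range (jApp j U)) = ⊤ := by
  set T := Subring.closure (Set.range (A.str.app (op U)).hom ∪ Set.range (jApp j U)) with hT
  let R : CommRingCat.{u} := CommRingCat.of T
  let σ : Γ(S, U) →+* R := (A.str.app (op U)).hom.codRestrict T
    fun r => Subring.subset_closure (Or.inl ⟨r, rfl⟩)
  let f : Γ(E, U) →+ R := (jApp j U).codRestrict T.toAddSubgroup.toAddSubmonoid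
    fun x => Subring.subset_closure (Or.inr ⟨x, rfl⟩)
  obtain ⟨g, hgs, hgj⟩ := h.exists_lift σ f fun r x => Subtype.ext (jApp_smul j U r x)
  have hid : g ≫ CommRingCat.ofHom T.subtype = 𝟙 _ := h.ext _ _
    (fun r => show ((g.hom _ : T) : A.presheaf.obj (op U)) = _ by rw [hgs]; rfl)
    (fun x => show ((g.hom _ : T) : A.presheaf.obj (op U)) = _ by rw [hgj]; rfl)
  refine eq_top_iff.mpr fun a _ => ?_
  have : ((g.hom a : T) : A.presheaf.obj (op U)) = a := congr($(hid).hom a)
  rw [← this]
  exact (g.hom a : T).2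

/-- Maps of quasi-coherent algebras agree if they agree on affine opens. -/
theorem hom_ext_affine {ψ ψ' : A ⟶ B}
    (h : ∀ U : S.Opens, IsAffineOpen U → ψ.hom.app (op U) = ψ'.hom.app (op U)) : ψ = ψ' := by
  refine RelSpec.QCAlg.hom_ext ?_
  exact TopCat.Sheaf.hom_ext (A.presheaf) (⟨B.presheaf, B.isSheaf⟩ : TopCat.Sheaf CommRingCat.{u} S.carrier)
    (ProjDualR.HomAffine.basis S) fun U => h U.1 U.2

/-- Maps of quasi-coherent algebras may be given on affine opens. -/
theorem exists_hom_of_affine (g : ∀ U : S.affineOpens, A.presheaf.obj (op U.1) ⟶ B.presheaf.obj (op U.1))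
    (hnat : ∀ (U V : S.affineOpens) (i : V.1 ⟶ U.1) (a : A.presheaf.obj (op U.1)),
      (B.presheaf.map i.op).hom ((g U).hom a) = (g V).hom ((A.presheaf.map i.op).hom a))
    (hstr : ∀ (U : S.affineOpens) (r : Γ(S, U.1)),
      (g U).hom ((A.str.app (op U.1)).hom r) = (B.str.app (op U.1)).hom r) :
    ∃ ψ : A ⟶ B, ∀ U : S.affineOpens, ψ.hom.app (op U.1) = g U := by
  let B' : TopCat.Sheaf CommRingCat.{u} S.carrier := ⟨B.presheaf, B.isSheaf⟩
  let α : (inducedFunctor (ProjDualR.HomAffine.B S)).op ⋙ A.presheaf ⟶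
      (inducedFunctor (ProjDualR.HomAffine.B S)).op ⋙ B'.1 :=
    { app := fun U => g U.unop
      naturality := fun U V i => by
        refine CommRingCat.hom_ext (RingHom.ext fun a => ?_)
        exact (hnat U.unop V.unop i.unop.hom a).symm }
  let β : A.presheaf ⟶ B.presheaf :=
    TopCat.Sheaf.restrictHomEquivHom A.presheaf B' (ProjDualR.HomAffine.basis S) α
  have hβ : ∀ U : S.affineOpens, β.app (op U.1) = g U :=
    TopCat.Sheaf.extend_hom_app A.presheaf B' (ProjDualR.HomAffine.basis S) α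
  have hcomm : A.str ≫ β = B.str :=
    TopCat.Sheaf.hom_ext S.presheaf B' (ProjDualR.HomAffine.basis S) fun U => by
      refine CommRingCat.hom_ext (RingHom.ext fun r => ?_)
      show (β.app (op U.1)).hom ((A.str.app (op U.1)).hom r) = (B.str.app (op U.1)).hom r
      rw [hβ]
      exact hstr U r
  exact ⟨⟨β, hcomm⟩, hβ⟩

/-- The affine-local universal property gives the universal property among quasi-coherent algebras. -/
theorem IsAffSym.isSymAlg {j : E ⟶ A.toModule} (h : IsAffSym E A j) : RelSpec.IsSymAlg E A j := by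
  intro B φ
  choose g hgs hgj using fun U : S.affineOpens =>
    (h U.1 U.2).exists_lift (R := B.presheaf.obj (op U.1)) (B.str.app (op U.1)).hom (jApp φ U.1)
      (jApp_smul φ U.1)
  have hnat : ∀ (U V : S.affineOpens) (i : V.1 ⟶ U.1),
      g U ≫ B.presheaf.map i.op = A.presheaf.map i.op ≫ g V := by
    intro U V i
    refine (h U.1 U.2).ext _ _ (fun r => ?_) (fun x => ?_)
    · show (B.presheaf.map i.op).hom ((g U).hom _) = (g V).hom ((A.presheaf.map i.op).hom _)
      rw [hgs, str_res A i r, hgs, str_res B i r]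
    · show (B.presheaf.map i.op).hom ((g U).hom _) = (g V).hom ((A.presheaf.map i.op).hom _)
      rw [hgj, jApp_res j i x, hgj, jApp_res φ i x]
  obtain ⟨ψ, hψ⟩ := exists_hom_of_affine g (fun U V i a => congr($(hnat U V i).hom a)) hgs
  refine ⟨ψ, ?_, fun ψ' hψ' => hom_ext_affine fun U hU => ?_⟩
  · refine ProjDualR.HomAffine.hom_ext _ _ fun U => ?_
    ext x
    show (ψ.hom.app (op U.1)).hom (jApp j U.1 x) = jApp φ U.1 x
    rw [hψ U]
    exact hgj U x
  · refine (h U hU).ext _ _ (fun r => ?_) (fun x => ?_)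
    · rw [hom_str, hom_str]
    · have e := hψ ⟨U, hU⟩
      rw [e, hgj, ← jApp_toModuleMap, hψ']

/-- Transfer of the affine-local property along an isomorphism of algebras. -/
theorem IsAffSym.of_iso {j : E ⟶ A.toModule} (h : IsAffSym E A j) (e : A ≅ B) {k : E ⟶ B.toModule}
    (hk : j ≫ RelSpec.QCAlg.Hom.toModuleMap e.hom = k) : IsAffSym E B k := by
  subst hk
  intro U hU
  have h1 : e.hom.hom.app (op U) ≫ e.inv.hom.app (op U) = 𝟙 _ := by
    rw [← NatTrans.comp_app, ← RelSpec.QCAlg.comp_hom, e.hom_inv_id]; rfl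
  have h2 : e.inv.hom.app (op U) ≫ e.hom.hom.app (op U) = 𝟙 _ := by
    rw [← NatTrans.comp_app, ← RelSpec.QCAlg.comp_hom, e.inv_hom_id]; rfl
  refine ⟨fun {R} g g' hs hj => ?_, fun {R} σ f hf => ?_⟩
  · have : e.hom.hom.app (op U) ≫ g = e.hom.hom.app (op U) ≫ g' := by
      refine (h U hU).ext _ _ (fun r => ?_) (fun x => ?_)
      · show g.hom ((e.hom.hom.app (op U)).hom _) = g'.hom ((e.hom.hom.app (op U)).hom _)
        rw [hom_str]; exact hs r
      · exact hj x
    calc g = (e.inv.hom.app (op U) ≫ e.hom.hom.app (op U)) ≫ g := by rw [h2, Category.id_comp]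
      _ = g' := by rw [Category.assoc, this, ← Category.assoc, h2, Category.id_comp]
  · obtain ⟨g, hgs, hgj⟩ := (h U hU).exists_lift σ f hf
    refine ⟨e.inv.hom.app (op U) ≫ g, fun r => ?_, fun x => ?_⟩
    · show g.hom ((e.inv.hom.app (op U)).hom _) = _
      rw [hom_str]; exact hgs r
    · show g.hom ((e.inv.hom.app (op U)).hom ((e.hom.hom.app (op U)).hom (jApp j U x))) = _
      rw [show (e.inv.hom.app (op U)).hom ((e.hom.hom.app (op U)).hom (jApp j U x)) = jApp j U x
        from congr($(h1).hom (jApp j U x))]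
      exact hgj x

end Groth.Agent.Eg2Sym
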