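import Groth.Agent.Eg2Sym.Construct
import Groth.Agent.QCoh.Support
import Groth.Agent.RelSpecX.Spec
import Mathlib.AlgebraicGeometry.PullbackCarrier
import Mathlib.AlgebraicGeometry.Morphisms.FiniteType

/-!
# Vector bundles of quasi-coherent modules
-/

universe u

open CategoryTheory CategoryTheory.Limits AlgebraicGeometry TopologicalSpace Opposite

noncomputable section

namespace Groth.Agent.Eg2Sym

variable {S : Scheme.{u}}

/-- The chart square of a map of relative spectra is cartesian. -/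
theorem isPullback_specMap_ι {A B : RelSpec.QCAlg S} (ψ : A ⟶ B) (U : S.Opens) (hU : IsAffineOpen U) :
    IsPullback (Spec.map (ψ.hom.app (op U))) (B.ι U hU) (A.ι U hU) (RelSpec.QCAlg.specMap ψ) :=
  IsOpenImmersion.isPullback _ _ _ _ (RelSpec.QCAlg.ι_specMap U hU ψ)
    (by rw [← A.π_preimage U hU, ← Scheme.Hom.comp_preimage, RelSpec.QCAlg.specMap_π, B.π_preimage U hU])

/-- Closed immersion criterion for maps of relative spectra. -/
theorem isClosedImmersion_specMap {A B : RelSpec.QCAlg S} (ψ : A ⟶ B)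
    (h : ∀ (U : S.Opens), IsAffineOpen U → Function.Surjective (ψ.hom.app (op U)).hom) :
    IsClosedImmersion (RelSpec.QCAlg.specMap ψ) := by
  refine IsZariskiLocalAtTarget.of_openCover (P := @IsClosedImmersion) A.glueData.cover fun U => ?_
  show IsClosedImmersion (pullback.snd (RelSpec.QCAlg.specMap ψ) (A.ι U.1 U.2))
  have h1 := (isPullback_specMap_ι ψ U.1 U.2).flip
  rw [← h1.isoPullback_inv_snd]
  have : IsClosedImmersion (Spec.map (ψ.hom.app (op U.1))) :=
    IsClosedImmersion.spec_of_surjective _ (h U.1 U.2)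
  infer_instance

/-- A surjection of modules gives a surjection of symmetric algebras. -/
theorem surjective_of_epi {E F : S.Modules} (hE : Coh.IsQCoh E) (hF : Coh.IsQCoh F) (u : E ⟶ F) [Epi u]
    {A B : RelSpec.QCAlg S} {j : E ⟶ A.toModule} {k : F ⟶ B.toModule} (hB : IsAffSym F B k)
    (ψ : A ⟶ B) (hψ : j ≫ RelSpec.QCAlg.Hom.toModuleMap ψ = u ≫ k) (U : S.Opens) (hU : IsAffineOpen U) :
    Function.Surjective (ψ.hom.app (op U)).hom := by
  rw [← RingHom.range_eq_top, eq_top_iff, ← (hB U hU).closure_eq_top, Subring.closure_le]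
  rintro _ (⟨r, rfl⟩ | ⟨y, rfl⟩)
  · exact ⟨(A.str.app (op U)).hom r, hom_str ψ U r⟩
  · obtain ⟨x, rfl⟩ := QCoh.app_surjective_of_epi hE hF u hU y
    refine ⟨jApp j U x, ?_⟩
    rw [← jApp_toModuleMap, hψ]
    rfl

/-- The symmetric algebra of a biproduct, over an affine open. -/
theorem isPushout_biprod {E F : S.Modules} {AE AF A : RelSpec.QCAlg S}
    {jE : E ⟶ AE.toModule} {jF : F ⟶ AF.toModule} {j : E ⊞ F ⟶ A.toModule}
    (hAE : IsAffSym E AE jE) (hAF : IsAffSym F AF jF) (hA : IsAffSym (E ⊞ F) A j)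
    (ψE : AE ⟶ A) (ψF : AF ⟶ A)
    (hψE : jE ≫ RelSpec.QCAlg.Hom.toModuleMap ψE = biprod.inl ≫ j)
    (hψF : jF ≫ RelSpec.QCAlg.Hom.toModuleMap ψF = biprod.inr ≫ j)
    (U : S.Opens) (hU : IsAffineOpen U) :
    IsPushout (AE.str.app (op U)) (AF.str.app (op U)) (ψE.hom.app (op U)) (ψF.hom.app (op U)) := by
  have hsE : AE.str.app (op U) ≫ ψE.hom.app (op U) = A.str.app (op U) := by
    rw [← NatTrans.comp_app, ψE.comm]
  have hsF : AF.str.app (op U) ≫ ψF.hom.app (op U) = A.str.app (op U) := by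
    rw [← NatTrans.comp_app, ψF.comm]
  have heE : ∀ x, (ψE.hom.app (op U)).hom (jApp jE U x) = jApp j U ((biprod.inl : E ⟶ E ⊞ F).app U x) :=
    fun x => by rw [← jApp_toModuleMap, hψE]; rfl
  have heF : ∀ x, (ψF.hom.app (op U)).hom (jApp jF U x) = jApp j U ((biprod.inr : F ⟶ E ⊞ F).app U x) :=
    fun x => by rw [← jApp_toModuleMap, hψF]; rfl
  have key : ∀ s : PushoutCocone (AE.str.app (op U)) (AF.str.app (op U)),
      ∃! l : A.presheaf.obj (op U) ⟶ s.pt,
        ψE.hom.app (op U) ≫ l = s.inl ∧ ψF.hom.app (op U) ≫ l = s.inr := by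
    intro s
    let σ : Γ(S, U) →+* s.pt := (AE.str.app (op U) ≫ s.inl).hom
    have hσ : ∀ r, σ r = s.inr.hom ((AF.str.app (op U)).hom r) := fun r => congr($(s.condition).hom r)
    let f : Γ(E ⊞ F, U) →+ s.pt :=
      (s.inl.hom.toAddMonoidHom.comp ((jApp jE U).comp ((biprod.fst : E ⊞ F ⟶ E).app U).hom)) +
      (s.inr.hom.toAddMonoidHom.comp ((jApp jF U).comp ((biprod.snd : E ⊞ F ⟶ F).app U).hom))
    have hf : ∀ r x, f (r • x) = σ r * f x := by
      intro r x
      show s.inl.hom (jApp jE U ((biprod.fst : E ⊞ F ⟶ E).app U (r • x))) +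
          s.inr.hom (jApp jF U ((biprod.snd : E ⊞ F ⟶ F).app U (r • x))) =
        σ r * (s.inl.hom (jApp jE U ((biprod.fst : E ⊞ F ⟶ E).app U x)) +
          s.inr.hom (jApp jF U ((biprod.snd : E ⊞ F ⟶ F).app U x)))
      rw [(biprod.fst : E ⊞ F ⟶ E).app_smul, (biprod.snd : E ⊞ F ⟶ F).app_smul, jApp_smul, jApp_smul,
        map_mul, map_mul, mul_add]
      congr 1
      rw [hσ]
    obtain ⟨g, hgs, hgj⟩ := (hA U hU).exists_lift σ f hf
    refine ⟨g, ⟨?_, ?_⟩, fun g' hg' => ?_⟩
    · refine (hAE U hU).ext _ _ (fun r => ?_) (fun x => ?_)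
      · show g.hom ((ψE.hom.app (op U)).hom _) = _
        rw [hom_str, hgs]; rfl
      · show g.hom ((ψE.hom.app (op U)).hom _) = _
        rw [heE, hgj]
        have h1 : (biprod.fst : E ⊞ F ⟶ E).app U ((biprod.inl : E ⟶ E ⊞ F).app U x) = x :=
          congrArg (fun φ : E ⟶ E => φ.app U x) (biprod.inl_fst (X := E) (Y := F))
        have h2 : (biprod.snd : E ⊞ F ⟶ F).app U ((biprod.inl : E ⟶ E ⊞ F).app U x) = 0 := by
          refine (congrArg (fun φ : E ⟶ F => φ.app U x) (biprod.inl_snd (X := E) (Y := F))).trans ?_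
          simp
        show s.inl.hom (jApp jE U ((biprod.fst : E ⊞ F ⟶ E).app U _)) +
          s.inr.hom (jApp jF U ((biprod.snd : E ⊞ F ⟶ F).app U _)) = _
        rw [h1, h2, map_zero, map_zero, add_zero]
    · refine (hAF U hU).ext _ _ (fun r => ?_) (fun x => ?_)
      · show g.hom ((ψF.hom.app (op U)).hom _) = _
        rw [hom_str, hgs]; exact hσ r
      · show g.hom ((ψF.hom.app (op U)).hom _) = _
        rw [heF, hgj]
        have h1 : (biprod.snd : E ⊞ F ⟶ F).app U ((biprod.inr : F ⟶ E ⊞ F).app U x) = x :=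
          congrArg (fun φ : F ⟶ F => φ.app U x) (biprod.inr_snd (X := E) (Y := F))
        have h2 : (biprod.fst : E ⊞ F ⟶ E).app U ((biprod.inr : F ⟶ E ⊞ F).app U x) = 0 := by
          refine (congrArg (fun φ : F ⟶ E => φ.app U x) (biprod.inr_fst (X := E) (Y := F))).trans ?_
          simp
        show s.inl.hom (jApp jE U ((biprod.fst : E ⊞ F ⟶ E).app U _)) +
          s.inr.hom (jApp jF U ((biprod.snd : E ⊞ F ⟶ F).app U _)) = _
        rw [h1, h2, map_zero, map_zero, zero_add]
    · refine (hA U hU).ext _ _ (fun r => ?_) (fun x => ?_)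
      · rw [hgs, ← hom_str ψE U r]
        exact congr($(hg'.1).hom ((AE.str.app (op U)).hom r))
      · rw [hgj]
        have ht : (biprod.inl : E ⟶ E ⊞ F).app U ((biprod.fst : E ⊞ F ⟶ E).app U x) +
            (biprod.inr : F ⟶ E ⊞ F).app U ((biprod.snd : E ⊞ F ⟶ F).app U x) = x :=
          congrArg (fun φ : E ⊞ F ⟶ E ⊞ F => φ.app U x) (biprod.total (X := E) (Y := F))
        conv_lhs => rw [← ht, map_add, map_add, ← heE, ← heF]
        exact congrArg₂ (· + ·) (congr($(hg'.1).hom _)) (congr($(hg'.2).hom _))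
  choose l hl hu using key
  exact IsPushout.of_isColimit' ⟨hsE.trans hsF.symm⟩
    (PushoutCocone.IsColimit.mk _ l (fun s => (hl s).1) (fun s => (hl s).2)
      (fun s m h1 h2 => hu s m ⟨h1, h2⟩))

lemma isPullback_comp_mono {C : Type*} [Category C] {P X Y Z W : C} {p : P ⟶ X} {q : P ⟶ Y} {a : X ⟶ Z}
    {b : Y ⟶ Z} (h : IsPullback p q a b) (m : Z ⟶ W) [Mono m] : IsPullback p q (a ≫ m) (b ≫ m) :=
  IsPullback.of_isLimit' ⟨by rw [reassoc_of% h.w]⟩
    (PullbackCone.IsLimit.mk _
      (fun s => h.lift s.fst s.snd ((cancel_mono m).mp (by simpa using s.condition)))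
      (fun s => h.lift_fst _ _ _) (fun s => h.lift_snd _ _ _)
      (fun s l h1 h2 => h.hom_ext (by rw [h1, h.lift_fst]) (by rw [h2, h.lift_snd])))

/-- A square of relative spectra is cartesian if it is so over every affine open. -/
theorem isPullback_specMap {AE AF A : RelSpec.QCAlg S} (ψE : AE ⟶ A) (ψF : AF ⟶ A)
    (h : ∀ (U : S.Opens), IsAffineOpen U →
      IsPushout (AE.str.app (op U)) (AF.str.app (op U)) (ψE.hom.app (op U)) (ψF.hom.app (op U))) :
    IsPullback (RelSpec.QCAlg.specMap ψE) (RelSpec.QCAlg.specMap ψF) AE.π AF.π := by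
  have w : RelSpec.QCAlg.specMap ψE ≫ AE.π = RelSpec.QCAlg.specMap ψF ≫ AF.π := by
    rw [RelSpec.QCAlg.specMap_π, RelSpec.QCAlg.specMap_π]
  let c := pullback.lift (RelSpec.QCAlg.specMap ψE) (RelSpec.QCAlg.specMap ψF) w
  let g : pullback AE.π AF.π ⟶ S := pullback.fst _ _ ≫ AE.π
  refine IsPullback.of_iso_pullback ⟨w⟩ (@asIso _ _ _ _ c ?_) (pullback.lift_fst _ _ _)
    (pullback.lift_snd _ _ _)
  refine (IsZariskiLocalAtTarget.iff_of_iSup_eq_top (P := MorphismProperty.isomorphisms Scheme.{u})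
    (f := c) (fun U : S.affineOpens => g ⁻¹ᵁ U.1)
    (IsOpenCover.comap (iSup_affineOpens_eq_top S) g.base.1)).mpr fun U => ?_
  have hU : IsAffineOpen U.1 := U.2
  have hsq : IsPullback (Spec.map (ψE.hom.app (op U.1))) (Spec.map (ψF.hom.app (op U.1)))
      (Spec.map (AE.str.app (op U.1)) ≫ hU.fromSpec) (Spec.map (AF.str.app (op U.1)) ≫ hU.fromSpec) :=
    isPullback_comp_mono (isPullback_SpecMap_of_isPushout _ _ _ _ (h U.1 hU)) hU.fromSpec
  let m := pullback.map (Spec.map (AE.str.app (op U.1)) ≫ hU.fromSpec)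
    (Spec.map (AF.str.app (op U.1)) ≫ hU.fromSpec) AE.π AF.π (AE.ι U.1 hU) (AF.ι U.1 hU) (𝟙 S)
    (by rw [Category.comp_id, AE.ι_π]) (by rw [Category.comp_id, AF.ι_π])
  have hc : A.ι U.1 hU ≫ c = hsq.isoPullback.hom ≫ m := by
    refine pullback.hom_ext ?_ ?_
    · rw [Category.assoc, pullback.lift_fst, Category.assoc, pullback.lift_fst,
        hsq.isoPullback_hom_fst_assoc, RelSpec.QCAlg.ι_specMap]
    · rw [Category.assoc, pullback.lift_snd, Category.assoc, pullback.lift_snd,
        hsq.isoPullback_hom_snd_assoc, RelSpec.QCAlg.ι_specMap]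
  have hm : IsOpenImmersion m := inferInstance
  set V := g ⁻¹ᵁ U.1
  have hrange : Set.range (A.ι U.1 hU ≫ c) = Set.range V.ι := by
    rw [hc, Scheme.Opens.range_ι]
    simp only [Scheme.Hom.comp_base, TopCat.hom_comp, ContinuousMap.coe_comp]
    rw [Set.range_comp, Set.range_eq_univ.mpr hsq.isoPullback.hom.surjective, Set.image_univ,
      Scheme.Pullback.range_map, ← Scheme.Hom.coe_opensRange, ← Scheme.Hom.coe_opensRange,
      ← AE.π_preimage, ← AF.π_preimage]
    ext z
    refine ⟨fun hz => hz.1, fun hz => ⟨hz, ?_⟩⟩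
    show (pullback.snd AE.π AF.π ≫ AF.π) z ∈ U.1
    rw [← pullback.condition]
    exact hz
  have hopen : IsOpenImmersion (A.ι U.1 hU ≫ c) := by rw [hc]; infer_instance
  have hpre : c ⁻¹ᵁ V = A.π ⁻¹ᵁ U.1 := by
    show (c ≫ g) ⁻¹ᵁ U.1 = _
    rw [show c ≫ g = A.π by
      simp only [c, g, pullback.lift_fst_assoc, RelSpec.QCAlg.specMap_π]]
  have hr' : Set.range (c ⁻¹ᵁ V).ι = Set.range (A.ι U.1 hU) := by
    rw [Scheme.Opens.range_ι, hpre, A.π_preimage U.1 hU]
    rfl
  show IsIso (c ∣_ V)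
  have key : c ∣_ V = (IsOpenImmersion.isoOfRangeEq (c ⁻¹ᵁ V).ι (A.ι U.1 hU) hr').hom ≫
      (IsOpenImmersion.isoOfRangeEq (A.ι U.1 hU ≫ c) V.ι hrange).hom := by
    rw [← cancel_mono V.ι, morphismRestrict_ι, Category.assoc,
      IsOpenImmersion.isoOfRangeEq_hom_fac, IsOpenImmersion.isoOfRangeEq_hom_fac_assoc]
  rw [key]
  infer_instance

set_option linter.style.haveILetI false in
lemma finiteType_of_closure {R B M : Type u} [CommRing R] [CommRing B] [AddCommGroup M] [Module R M]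
    [hfin : Module.Finite R M] (σ : R →+* B) (f : M →+ B) (hf : ∀ r x, f (r • x) = σ r * f x)
    (h : Subring.closure (Set.range σ ∪ Set.range f) = ⊤) : σ.FiniteType := by
  letI := σ.toAlgebra
  obtain ⟨s, hs⟩ := hfin.fg_top
  haveI : DecidableEq B := Classical.decEq B
  let t : Finset B := s.image f
  let T : Subalgebra R B := Algebra.adjoin R (t : Set B)
  have hσ : ∀ r, σ r ∈ T := fun r => Subalgebra.algebraMap_mem T r
  have hf' : ∀ x ∈ Submodule.span R (s : Set M), f x ∈ T := by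
    intro x hx
    induction hx using Submodule.span_induction with
    | mem y hy => exact Algebra.subset_adjoin (Finset.mem_coe.mpr (Finset.mem_image_of_mem (f : M → B) hy))
    | zero => rw [map_zero]; exact T.zero_mem
    | add a b _ _ ha hb => rw [map_add]; exact T.add_mem ha hb
    | smul r a _ ha =>
      rw [hf]
      exact T.mul_mem (hσ r) ha
  have hsub : Set.range σ ∪ Set.range f ⊆ (T.toSubring : Set B) := by
    rintro _ (⟨r, rfl⟩ | ⟨x, rfl⟩)
    · exact hσ r
    · exact hf' x (by rw [hs]; trivial)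
  have htop : T = ⊤ := eq_top_iff.mpr fun a _ => by
    have ha : a ∈ Subring.closure (Set.range σ ∪ Set.range f) := by rw [h]; exact Subring.mem_top a
    exact (Subring.closure_le (t := T.toSubring)).mpr hsub ha
  exact ⟨⟨t, htop⟩⟩

set_option backward.isDefEq.respectTransparency false in
/-- The vector bundle of a module of finite type is of finite type. -/
theorem locallyOfFiniteType_π {E : S.Modules} (hE : Coh.IsCoh E) {A : RelSpec.QCAlg S}
    {j : E ⟶ A.toModule} (hA : IsAffSym E A j) : LocallyOfFiniteType A.π := by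
  refine IsZariskiLocalAtTarget.of_iSup_eq_top (P := @LocallyOfFiniteType)
    (fun U : S.affineOpens => (U : S.Opens)) (iSup_affineOpens_eq_top S) fun U => ?_
  have hfin : Module.Finite Γ(S, U.1) Γ(E, U.1) := QCoh.finite_sections hE U.2
  have hft : (A.str.app (op U.1)).hom.FiniteType :=
    finiteType_of_closure (A.str.app (op U.1)).hom (jApp j U.1) (jApp_smul j U.1) (hA U.1 U.2).closure_eq_top
  have h2 : LocallyOfFiniteType (Spec.map (A.str.app (op U.1))) :=
    (HasRingHomProperty.Spec_iff (P := @LocallyOfFiniteType)).mpr hft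
  let e := morphismRestrictOpensRange A.π U.2.fromSpec
  rw [← U.2.opensRange_fromSpec, (MorphismProperty.arrow_mk_iso_iff @LocallyOfFiniteType e)]
  have h3 := (RelSpecX.isPullback_ι (A := A) U.1 U.2)
  rw [← h3.isoPullback_inv_snd]
  infer_instance

end Groth.Agent.Eg2Sym
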